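import Groth.Agent.Lib.SerreAff11.Core
import Groth.Agent.Lib.ModM1.FibreProd
import Mathlib.AlgebraicGeometry.Morphisms.Affine

/-!
Serre's criterion relative to an open: surjectivity on sections for maps with ideal kernel.
-/

set_option autoImplicit false

universe u

open CategoryTheory Limits AlgebraicGeometry TopologicalSpace Opposite

namespace Groth.Agent.SerreAff11

open Groth.Agent.M1

variable {X : Scheme.{u}}

/-- Sections over `W` are surjective for maps with kernel inside the structure module. -/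
def SurjAt (W : X.Opens) : Prop :=
  ∀ (M N : X.Modules) (p : M ⟶ N) (i : kernel p ⟶ Coh.structureModule X), Mono i → Epi p →
    Coh.IsQCoh M → Coh.IsQCoh N → Function.Surjective (p.app W)

/-- The ideal of functions vanishing outside an open. -/
noncomputable def idealOf (U : X.Opens) : Sub (Coh.structureModule X) :=
  Sub.ker (unitTo (Scheme.IdealSheafData.vanishingIdeal (X := X)
    ⟨(U : Set X)ᶜ, U.2.isClosed_compl⟩).subschemeι)

theorem isQCoh_idealOf (U : X.Opens) : Coh.IsQCoh (idealOf U).P :=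
  M1.isQCoh_kernel (M1.isQCoh_structureModule X) (isQCoh_push_unit _) _

theorem range_ideal (U : X.Opens) : Set.range (Scheme.IdealSheafData.vanishingIdeal (X := X)
    ⟨(U : Set X)ᶜ, U.2.isClosed_compl⟩).subschemeι = (U : Set X)ᶜ := by
  rw [Scheme.IdealSheafData.range_subschemeι, Scheme.IdealSheafData.coe_support_vanishingIdeal]; rfl

theorem idealOf_mem_one (U : X.Opens) : (idealOf U).mem U (1 : Γ(X, U)) := by
  rw [idealOf, Sub.mem_ker]
  have := subsingleton_of_preimage (Scheme.IdealSheafData.vanishingIdeal (X := X)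
    ⟨(U : Set X)ᶜ, U.2.isClosed_compl⟩).subschemeι (V := U)
      fun z hz => (range_ideal U).le ⟨z, rfl⟩ hz
  exact this.elim _ _

theorem basicOpen_le_of_mem {U W : X.Opens} (b : Γ(X, W)) (hb : (idealOf U).mem W b) :
    X.basicOpen b ≤ U := fun y hy => by
  by_contra hyU
  obtain ⟨z, rfl⟩ := (range_ideal U).ge hyU
  exact notMem_basicOpen_of_app_eq_zero _ b ((Sub.mem_ker _ W (show Γ(Coh.structureModule X, W) from b)).1 hb) z hy

/-- The sum of two submodules. -/
noncomputable def supMap (A B : Sub (Coh.structureModule X)) : A.P ⊞ B.P ⟶ Coh.structureModule X :=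
  biprod.desc A.i B.i

theorem mono_kernel_fst (A B : Sub (Coh.structureModule X)) :
    Mono (kernel.ι (supMap A B) ≫ biprod.fst) := by
  refine Preadditive.mono_of_cancel_zero _ fun {T} t ht => ?_
  have h1 : (t ≫ kernel.ι (supMap A B)) ≫ biprod.fst = 0 := by rw [Category.assoc]; exact ht
  have h2 : (t ≫ kernel.ι (supMap A B)) ≫ biprod.snd = 0 := by
    rw [← cancel_mono B.i, zero_comp]
    have : (t ≫ kernel.ι (supMap A B)) ≫ (biprod.fst ≫ A.i + biprod.snd ≫ B.i) = 0 := by
      rw [← biprod.desc_eq, Category.assoc]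
      exact (congrArg (t ≫ ·) (kernel.condition (supMap A B))).trans comp_zero
    rw [Preadditive.comp_add, ← Category.assoc _ _ A.i, h1, zero_comp, zero_add, ← Category.assoc] at this
    exact this
  rw [← cancel_mono (kernel.ι (supMap A B)), zero_comp]
  exact biprod.hom_ext _ _ (h1.trans zero_comp.symm) (h2.trans zero_comp.symm)

/-- A section of a sum splits. -/
theorem exists_split {W : X.Opens} (h : SurjAt W) {A B : Sub (Coh.structureModule X)}
    (hA : Coh.IsQCoh A.P) (hB : Coh.IsQCoh B.P) {s : Γ(Coh.structureModule X, W)}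
    (hs : (Sub.im (supMap A B)).mem W s) : ∃ a b, A.mem W a ∧ B.mem W b ∧ s = a + b := by
  have hM : Coh.IsQCoh (A.P ⊞ B.P) := isQCoh_biprod hA hB
  have hN : Coh.IsQCoh (Sub.im (supMap A B)).P := Sub.isQCoh_im _ hM (isQCoh_structureModule X)
  let p : A.P ⊞ B.P ⟶ (Sub.im (supMap A B)).P :=
    kernel.lift (cokernel.π (supMap A B)) (supMap A B) (cokernel.condition _)
  have hp : p ≫ (Sub.im (supMap A B)).i = supMap A B := kernel.lift_ι _ _ _
  have hk : kernel.ι p ≫ supMap A B = 0 := (congrArg (kernel.ι p ≫ ·) hp).symm.trans (by rw [kernel.condition_assoc, zero_comp])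
  let c : kernel p ⟶ kernel (supMap A B) := kernel.lift _ (kernel.ι p) hk
  have : Mono (c ≫ kernel.ι (supMap A B)) := by rw [kernel.lift_ι]; infer_instance
  have : Mono c := mono_of_mono c (kernel.ι (supMap A B))
  have := mono_kernel_fst A B
  have := A.mono
  obtain ⟨t, rfl⟩ := hs
  obtain ⟨m, rfl⟩ := h _ _ p ((c ≫ kernel.ι (supMap A B) ≫ biprod.fst) ≫ A.i) (mono_comp _ _)
    (Sub.epi_toIm _) hM hN t
  refine ⟨_, _, ⟨(biprod.fst : A.P ⊞ B.P ⟶ A.P).app W m, rfl⟩, ⟨(biprod.snd : A.P ⊞ B.P ⟶ B.P).app W m, rfl⟩, ?_⟩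
  rw [← comp_app_apply, hp, supMap, biprod.desc_eq]
  rfl

/-- Finitely many opens contribute a quasi-coherent submodule with sections in a prescribed span. -/
theorem exists_sub {W : X.Opens} (h : SurjAt W) {ι : Type*} (U : ι → X.Opens) (s : Finset ι) :
    ∃ S : Sub (Coh.structureModule X), Coh.IsQCoh S.P ∧ (∀ i ∈ s, S.mem (U i) (1 : Γ(X, U i))) ∧
      ∀ b : Γ(X, W), S.mem W b → b ∈ Ideal.span {c : Γ(X, W) | ∃ i ∈ s, X.basicOpen c ≤ U i} := by
  classical
  induction s using Finset.induction with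
  | empty =>
    refine ⟨Sub.ker (𝟙 _), isQCoh_kernel (isQCoh_structureModule X) (isQCoh_structureModule X) _,
      by simp, fun b hb => ?_⟩
    obtain rfl : b = 0 := (Sub.mem_ker _ W (show Γ(Coh.structureModule X, W) from b)).1 hb
    exact Ideal.zero_mem _
  | insert j s hj ih =>
    obtain ⟨S, hS, hmem, hspan⟩ := ih
    refine ⟨Sub.im (supMap (idealOf (U j)) S),
      Sub.isQCoh_im _ (isQCoh_biprod (isQCoh_idealOf _) hS) (isQCoh_structureModule X), fun i hi => ?_,
      fun b hb => ?_⟩
    · rcases Finset.mem_insert.1 hi with rfl | hi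
      · obtain ⟨a, ha⟩ := idealOf_mem_one (U i)
        have := Sub.im_mem_app (supMap (idealOf (U i)) S) (U i)
          ((biprod.inl : (idealOf (U i)).P ⟶ (idealOf (U i)).P ⊞ S.P).app (U i) a)
        rwa [← comp_app_apply, supMap, biprod.inl_desc, ha] at this
      · obtain ⟨a, ha⟩ := hmem i hi
        have := Sub.im_mem_app (supMap (idealOf (U j)) S) (U i)
          ((biprod.inr : S.P ⟶ (idealOf (U j)).P ⊞ S.P).app (U i) a)
        rwa [← comp_app_apply, supMap, biprod.inr_desc, ha] at this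
    · obtain ⟨a, c, ha, hc, rfl⟩ := exists_split h (isQCoh_idealOf _) hS hb
      exact Ideal.add_mem _ (Ideal.subset_span ⟨j, Finset.mem_insert_self _ _, basicOpen_le_of_mem a ha⟩)
        (Ideal.span_mono (by rintro x ⟨i, hi, hx⟩; exact ⟨i, Finset.mem_insert_of_mem hi, hx⟩) (hspan c hc))

/-- A compact open on which sections are surjective is affine. -/
theorem isAffineOpen_of_surjAt (W : X.Opens) (hW : IsCompact (W : Set X)) (h : SurjAt W) :
    IsAffineOpen W := by
  classical
  let S := {U : X.Opens // IsAffineOpen U ∧ U ≤ W}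
  have hcov : (W : Set X) ⊆ ⋃ U : S, (U.1 : Set X) := fun y hy => by
    obtain ⟨U, hU, hyU, hUW⟩ := exists_isAffineOpen_mem_and_subset (X := X) (x := y) (U := W) hy
    exact Set.mem_iUnion.2 ⟨⟨U, hU, hUW⟩, hyU⟩
  obtain ⟨T, hT⟩ := hW.elim_finite_subcover (fun U : S => (U.1 : Set X)) (fun U => U.1.2) hcov
  obtain ⟨J, -, hmem, hspan⟩ := exists_sub h (fun U : S => U.1) T
  have h1 : J.mem W (1 : Γ(X, W)) := by
    refine J.mem_of_locally _ fun y hy => ?_
    obtain ⟨U, hU, hyU⟩ := Set.mem_iUnion₂.1 (hT hy)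
    refine ⟨U.1, U.2.2, hyU, ?_⟩
    rw [show mres (Coh.structureModule X) U.2.2 (1 : Γ(X, W)) = (1 : Γ(X, U.1)) from mres_one U.2.2]
    exact hmem U hU
  refine isAffineOpen_of_isAffineOpen_basicOpen W _ ((Ideal.eq_top_iff_one _).2 (hspan _ h1)) ?_
  rintro c ⟨i, hi, hc⟩
  have e : X.basicOpen (X.presheaf.map (homOfLE i.2.2).op c) = X.basicOpen c := by
    rw [Scheme.basicOpen_res]
    exact inf_eq_right.2 hc
  exact e ▸ i.2.1.basicOpen _

end Groth.Agent.SerreAff11
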