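import Groth.Agent.Lib.ModM1.Sub
import Groth.Agent.Lib.ModM1.Coh
import Groth.Agent.Lib.ModM1.Push
import Mathlib.AlgebraicGeometry.Morphisms.ClosedImmersion
import Mathlib.AlgebraicGeometry.Morphisms.Affine
import Mathlib.Algebra.Category.ModuleCat.Sheaf.PullbackFree

/-!
Serre's criterion: the step producing affine basic opens from surjectivity on sections.
-/

set_option autoImplicit false
set_option linter.style.haveILetI false

universe u

open CategoryTheory Limits AlgebraicGeometry TopologicalSpace Opposite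

namespace Groth.Agent.SerreAff11

open Groth.Agent.M1

variable {X : Scheme.{u}}

/-- `O ⟶ i_* O`. -/
noncomputable def unitTo {Z : Scheme.{u}} (i : Z ⟶ X) :
    Coh.structureModule X ⟶ (Scheme.Modules.pushforward i).obj (Coh.structureModule Z) :=
  SheafOfModules.unitToPushforwardObjUnit i.toRingCatSheafHom

theorem unitTo_app {Z : Scheme.{u}} (i : Z ⟶ X) (V : X.Opens) (s : Γ(X, V)) :
    (unitTo i).app V s = i.app V s := rfl

theorem isQCoh_push_unit {Z : Scheme.{u}} (i : Z ⟶ X) [IsClosedImmersion i] :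
    Coh.IsQCoh ((Scheme.Modules.pushforward i).obj (Coh.structureModule Z)) :=
  M1.isQCoh_push i (M1.isQCoh_structureModule Z)

theorem subsingleton_of_preimage {Z : Scheme.{u}} (i : Z ⟶ X) {V : X.Opens} (h : ∀ z, i z ∉ V) :
    Subsingleton Γ(Z, i ⁻¹ᵁ V) := by
  have e : i ⁻¹ᵁ V = ⊥ := le_bot_iff.1 fun z hz => (h z hz).elim
  rw [e]
  infer_instance

/-- A function killed on a closed subscheme is not invertible there. -/
theorem notMem_basicOpen_of_app_eq_zero {Z : Scheme.{u}} (i : Z ⟶ X) {V : X.Opens} (g : Γ(X, V))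
    (hg : i.app V g = 0) (z : Z) : i z ∉ X.basicOpen g := fun hz => by
  have h1 : z ∈ i ⁻¹ᵁ X.basicOpen g := hz
  rw [Scheme.preimage_basicOpen, hg, Scheme.basicOpen_zero] at h1
  exact h1

/-- A function equal to one on a closed subscheme is invertible there. -/
theorem mem_basicOpen_of_app_eq_one {Z : Scheme.{u}} (i : Z ⟶ X) {V : X.Opens} (g : Γ(X, V))
    (hg : i.app V g = 1) (z : Z) (hz : i z ∈ V) : i z ∈ X.basicOpen g := by
  have h1 : z ∈ Z.basicOpen (i.app V g) := by
    rw [hg, Scheme.basicOpen_of_isUnit _ isUnit_one]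
    exact hz
  rw [← Scheme.preimage_basicOpen] at h1
  exact h1

/-- An affine basic open of `W` around a point closed in `W`. -/
theorem exists_basicOpen_affine (W : X.Opens) {U : X.Opens} (hU : IsAffineOpen U) (hUW : U ≤ W) {x : X}
    (hx : x ∈ U) (hcl : ∀ y ∈ closure ({x} : Set X), y ∈ W → y = x)
    (h : ∀ (F F'' : X.Modules) (i : F ⟶ Coh.structureModule X) (p : F ⟶ F''), Mono i → Epi p →
      Coh.IsQCoh F → Coh.IsQCoh F'' → Function.Surjective (p.app W)) :
    ∃ g : Γ(X, W), x ∈ X.basicOpen g ∧ IsAffineOpen (X.basicOpen g) := by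
  let I₁ := Scheme.IdealSheafData.vanishingIdeal (X := X) ⟨(U : Set X)ᶜ, U.2.isClosed_compl⟩
  let I₂ := Scheme.IdealSheafData.vanishingIdeal (X := X) ⟨closure {x}, isClosed_closure⟩
  have r₁ : Set.range I₁.subschemeι = (U : Set X)ᶜ := by
    rw [Scheme.IdealSheafData.range_subschemeι, Scheme.IdealSheafData.coe_support_vanishingIdeal]; rfl
  have r₂ : Set.range I₂.subschemeι = closure {x} := by
    rw [Scheme.IdealSheafData.range_subschemeι, Scheme.IdealSheafData.coe_support_vanishingIdeal]; rfl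
  let F := Sub.ker (unitTo I₁.subschemeι)
  have hF : Coh.IsQCoh F.P :=
    M1.isQCoh_kernel (M1.isQCoh_structureModule X) (isQCoh_push_unit I₁.subschemeι) _
  let q := F.i ≫ unitTo I₂.subschemeι
  let J := Sub.im q
  let p : F.P ⟶ J.P := kernel.lift (cokernel.π q) q (cokernel.condition q)
  have hp : p ≫ J.i = q := kernel.lift_ι _ _ _
  have hmem : J.mem W ((unitTo I₂.subschemeι).app W (1 : Γ(X, W))) := by
    refine J.mem_of_locally _ fun y hy => ?_
    by_cases hyx : y ∈ closure ({x} : Set X)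
    · obtain rfl := hcl y hyx hy
      refine ⟨U, hUW, hx, ?_⟩
      have h1 : F.mem U (1 : Γ(X, U)) := by
        rw [Sub.mem_ker]
        haveI := subsingleton_of_preimage I₁.subschemeι (V := U)
          fun z hz => (r₁.le ⟨z, rfl⟩ : I₁.subschemeι z ∈ (U : Set X)ᶜ) hz
        exact Subsingleton.elim (α := Γ(I₁.subscheme, I₁.subschemeι ⁻¹ᵁ U)) _ _
      obtain ⟨a, ha⟩ := h1
      have h2 := Sub.im_mem_app q U a
      rw [comp_app_apply, ha] at h2
      rwa [← M1.app_mres, show mres (Coh.structureModule X) hUW (1 : Γ(X, W)) = (1 : Γ(X, U)) from mres_one hUW]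
    · let V : X.Opens := W ⊓ ⟨(closure ({x} : Set X))ᶜ, isClosed_closure.isOpen_compl⟩
      refine ⟨V, inf_le_left, ⟨hy, hyx⟩, ?_⟩
      haveI := subsingleton_of_preimage I₂.subschemeι (V := V)
        fun z hz => hz.2 (r₂.le ⟨z, rfl⟩)
      refine (congrArg (J.mem V) ?_).mpr (J.mem_zero V)
      exact Subsingleton.elim (α := Γ(I₂.subscheme, I₂.subschemeι ⁻¹ᵁ V)) _ _
  obtain ⟨t, ht⟩ := hmem
  haveI : Mono F.i := F.mono
  obtain ⟨a, ha⟩ := h F.P J.P F.i p F.mono (Sub.epi_toIm q) hF
    (Sub.isQCoh_im q hF (isQCoh_push_unit I₂.subschemeι)) t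
  let g : Γ(X, W) := F.i.app W a
  have h0 : I₁.subschemeι.app W g = 0 := (Sub.mem_ker (unitTo I₁.subschemeι) W g).1 ⟨a, rfl⟩
  have h1 : I₂.subschemeι.app W g = 1 := by
    have e : q.app W a = (unitTo I₂.subschemeι).app W (1 : Γ(X, W)) := by
      rw [← hp, comp_app_apply, ha, ht]
    rw [comp_app_apply] at e
    exact e.trans (map_one (I₂.subschemeι.app W).hom)
  have hgU : X.basicOpen g ≤ U := fun y hy => by
    by_contra hyU
    obtain ⟨z, rfl⟩ := r₁.ge hyU
    exact notMem_basicOpen_of_app_eq_zero _ g h0 z hy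
  have hxg : x ∈ X.basicOpen g := by
    obtain ⟨z, hz⟩ := r₂.ge (subset_closure rfl : x ∈ closure ({x} : Set X))
    have := mem_basicOpen_of_app_eq_one _ g h1 z (by rw [hz]; exact hUW hx)
    rwa [hz] at this
  refine ⟨g, hxg, ?_⟩
  have e : X.basicOpen (X.presheaf.map (homOfLE hUW).op g) = X.basicOpen g := by
    rw [Scheme.basicOpen_res]
    exact inf_eq_right.2 hgU
  exact e ▸ hU.basicOpen _

end Groth.Agent.SerreAff11
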