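import Groth.Agent.Lib.SerreAff11.Core
import Mathlib.Topology.Separation.Basic

/-!
Serre's criterion: covering by affine basic opens.
-/

set_option autoImplicit false

universe u

open CategoryTheory Limits AlgebraicGeometry TopologicalSpace Opposite

namespace Groth.Agent.SerreAff11

variable {X : Scheme.{u}}

/-- A compact open is covered by affine basic opens. -/
theorem exists_affine_cover (W : X.Opens) (hW : IsCompact (W : Set X))
    (h : ∀ (F F'' : X.Modules) (i : F ⟶ Coh.structureModule X) (p : F ⟶ F''), Mono i → Epi p →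
      Coh.IsQCoh F → Coh.IsQCoh F'' → Function.Surjective (p.app W)) :
    ∃ (n : ℕ) (g : ULift.{u} (Fin n) → Γ(X, W)), (∀ i, IsAffineOpen (X.basicOpen (g i))) ∧
      ∀ y ∈ W, ∃ i, y ∈ X.basicOpen (g i) := by
  classical
  have : CompactSpace W := isCompact_iff_compactSpace.1 hW
  let S := {g : Γ(X, W) // IsAffineOpen (X.basicOpen g)}
  have hcov : ∀ y ∈ W, ∃ g : S, y ∈ X.basicOpen g.1 := by
    by_contra hne
    push Not at hne
    obtain ⟨y₀, hy₀W, hy₀⟩ := hne
    let C : Set W := {y | ∀ g : S, y.1 ∉ X.basicOpen g.1}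
    have hC : IsClosed C := by
      rw [show C = ⋂ g : S, (Subtype.val ⁻¹' (X.basicOpen g.1 : Set X))ᶜ by
        ext y; exact ⟨fun h => Set.mem_iInter.2 h, fun h => Set.mem_iInter.1 h⟩]
      exact isClosed_iInter fun g => ((X.basicOpen g.1).2.preimage continuous_subtype_val).isClosed_compl
    obtain ⟨x, hxC, hxcl⟩ := hC.exists_closed_singleton ⟨⟨y₀, hy₀W⟩, (hy₀ : (⟨y₀, hy₀W⟩ : ↥(W : Set X)) ∈ C)⟩
    obtain ⟨U, hU, hxU, hUW⟩ := exists_isAffineOpen_mem_and_subset (X := X) (x := x.1) (U := W) x.2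
    have hcl : ∀ y ∈ closure ({x.1} : Set X), y ∈ W → y = x.1 := fun y hy hyW => by
      have h1 : (⟨y, hyW⟩ : ↥(W : Set X)) ∈ closure ({x} : Set ↥(W : Set X)) := by
        refine closure_subtype.2 ?_
        exact closure_mono (Set.singleton_subset_iff.2 (Set.mem_image_of_mem _ (Set.mem_singleton x))) hy
      have h2 : (⟨y, hyW⟩ : ↥(W : Set X)) ∈ ({x} : Set ↥(W : Set X)) := hxcl.closure_eq.subset h1
      exact congrArg Subtype.val h2
    obtain ⟨g, hxg, hg⟩ := exists_basicOpen_affine W hU hUW hxU hcl h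
    exact hxC ⟨g, hg⟩ hxg
  obtain ⟨T, hT⟩ := hW.elim_finite_subcover (fun g : S => (X.basicOpen g.1 : Set X))
    (fun g => (X.basicOpen g.1).2) fun y hy => Set.mem_iUnion.2 (hcov y hy)
  let e := T.equivFin
  refine ⟨T.card, fun i => (e.symm i.down).1.1, fun i => (e.symm i.down).1.2, fun y hy => ?_⟩
  obtain ⟨g, hg, hyg⟩ := Set.mem_iUnion₂.1 (hT hy)
  exact ⟨⟨e ⟨g, hg⟩⟩, by simp only [e.symm_apply_apply]; exact hyg⟩

end Groth.Agent.SerreAff11
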