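import Groth.Agent.Lib.ModM1.Sub
import Mathlib.AlgebraicGeometry.Morphisms.Affine

/-!
Serre's criterion: functions covering a scheme, and lifting the unit through the map they define.
-/

set_option autoImplicit false
set_option linter.style.haveILetI false

universe u

open CategoryTheory Limits AlgebraicGeometry TopologicalSpace Opposite

namespace Groth.Agent.SerreAff11

open Groth.Agent.M1

variable {X : Scheme.{u}} {I : Type u}

/-- The map `O^I ⟶ O` given by functions. -/
noncomputable def rowHom (g : I → Γ(X, ⊤)) : (fr I : X.Modules) ⟶ Coh.structureModule X :=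
  freeHom (M := Coh.structureModule X) g

theorem secHom_app (g : Γ(X, ⊤)) (V : X.Opens) (r : Γ(X, V)) :
    (secHom (M := Coh.structureModule X) g).app V r = (r * X.presheaf.map (homOfLE le_top).op g : Γ(X, V)) := by
  have h1 : (show Γ(Coh.structureModule X, V) from r) = r • one V := (mul_one r).symm
  show (secHom (M := Coh.structureModule X) g).app V (show Γ(Coh.structureModule X, V) from r) = _
  refine (congrArg ((secHom (M := Coh.structureModule X) g).app V) h1).trans ?_
  rw [Scheme.Modules.Hom.app_smul, ← mres_one (le_top : V ≤ ⊤), app_mres, secHom_app_one]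
  rfl

/-- Where some function is invertible the unit lifts. -/
theorem exists_local_lift (g : I → Γ(X, ⊤)) (i : I) :
    ∃ m : Γ((fr I : X.Modules), X.basicOpen (g i)), (rowHom g).app (X.basicOpen (g i)) m = one (X.basicOpen (g i)) := by
  obtain ⟨v, hv⟩ := (RingedSpace.isUnit_res_basicOpen X.toRingedSpace (g i)).exists_left_inv
  refine ⟨(ιF i).app (X.basicOpen (g i)) (show Γ(Coh.structureModule X, X.basicOpen (g i)) from v), ?_⟩
  rw [← comp_app_apply, rowHom, ιF_freeHom]
  exact (secHom_app (g i) _ v).trans hv

/-- A global lift of the unit gives the unit ideal. -/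
theorem span_eq_top_of_lift [Finite I] (g : I → Γ(X, ⊤))
    (h : ∃ a : Γ((fr I : X.Modules), ⊤), (rowHom g).app ⊤ a = one ⊤) : Ideal.span (Set.range g) = ⊤ := by
  classical
  haveI := Fintype.ofFinite I
  obtain ⟨a, ha⟩ := h
  let π : I → ((fr I : X.Modules) ⟶ Coh.structureModule X) := fun i =>
    freeHom (M := Coh.structureModule X) fun k => if k = i then one ⊤ else 0
  have hsum : (∑ i, π i ≫ ιF i) = 𝟙 (fr I : X.Modules) := by
    refine free_hom_ext fun k => ?_
    rw [Preadditive.comp_sum, Finset.sum_eq_single k]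
    · have : secHom (M := Coh.structureModule X) (one ⊤) = 𝟙 _ := unit_hom_ext (secHom_app_one _)
      rw [Category.comp_id, ← Category.assoc, ιF_freeHom, if_pos rfl, this, Category.id_comp]
    · intro j _ hj
      have : secHom (M := Coh.structureModule X) (0 : Γ(Coh.structureModule X, ⊤)) = 0 :=
        unit_hom_ext ((secHom_app_one _).trans rfl)
      rw [← Category.assoc, ιF_freeHom, if_neg (Ne.symm hj), this, zero_comp]
    · exact fun hk => (hk (Finset.mem_univ k)).elim
  have key : rowHom g = ∑ i, π i ≫ secHom (M := Coh.structureModule X) (g i) := by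
    conv_lhs => rw [← Category.id_comp (rowHom g), ← hsum, Preadditive.sum_comp]
    exact Finset.sum_congr rfl fun i _ => by rw [Category.assoc, rowHom, ιF_freeHom]
  rw [key] at ha
  let ev : ((fr I : X.Modules) ⟶ Coh.structureModule X) →+ Γ(X, ⊤) :=
    AddMonoidHom.mk' (fun φ => φ.app ⊤ a) fun φ ψ => rfl
  replace ha : ev (∑ i, π i ≫ secHom (M := Coh.structureModule X) (g i)) = 1 := ha
  rw [map_sum] at ha
  rw [Ideal.eq_top_iff_one, ← ha]
  refine Ideal.sum_mem _ fun i _ => ?_
  show (π i ≫ secHom (M := Coh.structureModule X) (g i)).app ⊤ a ∈ _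
  rw [comp_app_apply, secHom_app]
  refine Ideal.mul_mem_left (Ideal.span (Set.range g) : Ideal Γ(X, ⊤)) _ (Ideal.subset_span ⟨i, ?_⟩)
  exact (mres_id (Coh.structureModule X) le_rfl (g i)).symm

/-- A scheme with affine basic opens covering it, the unit lifting, is affine. -/
theorem isAffine_of_lift [Finite I] (g : I → Γ(X, ⊤)) (haff : ∀ i, IsAffineOpen (X.basicOpen (g i)))
    (h : ∃ a : Γ((fr I : X.Modules), ⊤), (rowHom g).app ⊤ a = one ⊤) : IsAffine X :=
  isAffine_of_isAffineOpen_basicOpen (Set.range g) (span_eq_top_of_lift g h) fun _ ⟨i, hi⟩ => hi ▸ haff i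

end Groth.Agent.SerreAff11
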